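import Groth.Agent.CurveEmbed.Line
import Mathlib.Topology.NoetherianSpace

/-!
# Closed immersions of a reduced Noetherian scheme into itself
-/

set_option linter.style.haveILetI false
set_option linter.unusedSectionVars false
set_option backward.isDefEq.respectTransparency false

universe u

open CategoryTheory CategoryTheory.Limits AlgebraicGeometry TopologicalSpace

namespace Groth.Agent.LinSub

/-- An injective closed map of a Noetherian space into itself is surjective. -/
theorem surjective_of_isClosedEmbedding {α : Type*} [TopologicalSpace α] [NoetherianSpace α] {f : α → α}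
    (hf : Topology.IsClosedEmbedding f) : Function.Surjective f := by
  have hc : ∀ m : ℕ, IsClosed (Set.range f^[m]) := fun m => by
    induction m with
    | zero => simp
    | succ m ih =>
      rw [Function.iterate_succ', Set.range_comp]
      exact hf.isClosedMap _ ih
  let c : ℕ →o (Closeds α)ᵒᵈ :=
    { toFun := fun m => OrderDual.toDual ⟨Set.range f^[m], hc m⟩
      monotone' := monotone_nat_of_le_succ fun m => by
        show Set.range f^[m + 1] ⊆ Set.range f^[m]
        rw [Function.iterate_succ]
        exact Set.range_comp_subset_range _ _ }
  obtain ⟨N, hN⟩ := WellFoundedGT.monotone_chain_condition c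
  intro y
  have h : Set.range f^[N] = Set.range f^[N + 1] := congrArg (fun z => ((OrderDual.ofDual z : Closeds α) : Set α)) (hN (N + 1) (Nat.le_succ N))
  obtain ⟨x, hx⟩ : f^[N] y ∈ Set.range f^[N + 1] := h ▸ ⟨y, rfl⟩
  exact ⟨x, hf.injective.iterate N (by rwa [Function.iterate_succ_apply] at hx)⟩

theorem isIso_of_isClosedImmersion_self {X : Scheme.{u}} [IsReduced X] [NoetherianSpace X] (f : X ⟶ X)
    [IsClosedImmersion f] : IsIso f := by
  haveI : Surjective f := ⟨surjective_of_isClosedEmbedding f.isClosedEmbedding⟩
  exact isIso_of_isClosedImmersion_of_surjective f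

end Groth.Agent.LinSub
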