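import Groth.Agent.LinHyp.Basic
import Groth.Agent.PnEuler.Generic
import Groth.Agent.PnEuler.Bott
import Groth.Agent.PnEuler.BottDim
import Groth.Agent.Big.SectionDivisor
import Groth.Agent.Lib.CurveTensor
import Groth.Agent.AmpleDev.Basic
import Groth.Agent.ExtShX.LinearHom
import Groth.Agent.CurveEmbed.Line
import Groth.Agent.CurveCohLib.Nonspecial
import Groth.Agent.QCoh.HHExact
import Groth.Agent.PnVan.Depth
import Groth.Agent.H23.PnChart

/-!
# Hyperplanes through a linear subspace and restriction of bundles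
-/

set_option linter.style.haveILetI false
set_option linter.unusedSectionVars false
set_option backward.isDefEq.respectTransparency false
set_option backward.isDefEq.respectTransparency.types false
set_option maxHeartbeats 1000000

universe u

open CategoryTheory CategoryTheory.Limits AlgebraicGeometry TopologicalSpace Opposite HomogeneousLocalization MvPolynomial
open scoped HomogeneousIdeal

noncomputable section

namespace Groth.Agent.LinSub

open Groth.Agent Groth.Agent.LinHyp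

theorem map_toSpec {k : Type u} [CommRing k] {N m : ℕ}
    (ψ : MvPolynomial (Fin (N + 1)) k →ₐ[k] MvPolynomial (Fin (m + 1)) k)
    (Ψ : CohB1.polyGrading N k →+*ᵍ CohB1.polyGrading m k) (hΨ : ∀ p, Ψ p = ψ p)
    (hirr : (CohB1.polyGrading m k)₊ ≤ ((CohB1.polyGrading N k)₊).map Ψ) :
    Proj.map Ψ hirr ≫ CohB1.ProjSpace.toSpec N k = CohB1.ProjSpace.toSpec m k := by
  refine (Proj.mapAffineOpenCover Ψ hirr).openCover.hom_ext _ _ ?_
  suffices h : ∀ (d : ℕ) (hd : 0 < d) (a : MvPolynomial (Fin (N + 1)) k) (ha : a ∈ CohB1.polyGrading N k d),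
      Proj.awayι (CohB1.polyGrading m k) (Ψ a) (Ψ.2 ha) hd ≫ Proj.map Ψ hirr ≫
          Proj.toSpecZero (CohB1.polyGrading N k) ≫
            Spec.map (CommRingCat.ofHom (algebraMap k (CohB1.polyGrading N k 0))) =
        Proj.awayι (CohB1.polyGrading m k) (Ψ a) (Ψ.2 ha) hd ≫
          Proj.toSpecZero (CohB1.polyGrading m k) ≫
            Spec.map (CommRingCat.ofHom (algebraMap k (CohB1.polyGrading m k 0))) from
    fun s => h s.1 s.1.2 s.2 s.2.2
  intro d hd a ha
  rw [Proj.awayι_comp_map_assoc _ _ hd a ha, Proj.awayι_toSpecZero_assoc, Proj.awayι_toSpecZero_assoc,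
    ← Spec.map_comp, ← Spec.map_comp, ← Spec.map_comp]
  congr 1
  ext r
  simp only [CommRingCat.hom_comp, CommRingCat.hom_ofHom, RingHom.comp_apply, Away.map, fromZeroRingHom,
    RingHom.coe_mk, MonoidHom.coe_mk, OneHom.coe_mk, HomogeneousLocalization.map_mk, HomogeneousLocalization.val_mk]
  refine congr_arg₂ Localization.mk ?_ (Subtype.ext (map_one _))
  exact (hΨ _).trans (ψ.commutes r)

variable {n : ℕ}

theorem hyperplane_iso_over (k : Type u) [Field k] (n : ℕ)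
    (s : Coh.structureModule (CohB1.ProjSpace (n + 1) k) ⟶ Twist.twistProjSpace (n + 1) k 1) (hs : s ≠ 0) :
    ∃ φ : CohB1.ProjSpace n k ≅ (PicF2.zeroScheme _ s).subscheme,
      φ.hom ≫ (PicF2.zeroScheme _ s).subschemeι ≫ CohB1.ProjSpace.toSpec (n + 1) k = CohB1.ProjSpace.toSpec n k ∧
      Nonempty ((Scheme.Modules.pullback (φ.hom ≫ (PicF2.zeroScheme _ s).subschemeι)).obj
        (Twist.twistProjSpace (n + 1) k 1) ≅ Twist.twistProjSpace n k 1) := by
  classical
  let 𝒜 := CohB1.polyGrading (n + 1) k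
  let L : (Proj 𝒜).Modules := Twist.twist 𝒜 ((1 : ℕ) : ℤ)
  let s' : Coh.structureModule (Proj 𝒜) ⟶ L := s
  let σ : Γ(L, (⊤ : (Proj 𝒜).Opens)) := ZeroSchX.sv s' ⊤
  obtain ⟨⟨a, ha⟩, hσ⟩ := PnCoh.exists_globalOf_eq (ι := Fin (n + 1 + 1)) (R := k) (d := 1)
    (σ : PnCoh.TwTop (Fin (n + 1 + 1)) k ((1 : ℕ) : ℤ))
  have ha0 : a ≠ 0 := fun h0 => by
    subst h0
    have hσ0 : σ = 0 := hσ.symm.trans (Subtype.ext (funext fun x => Subtype.ext (Localization.mk_zero _)))
    apply hs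
    refine Scheme.Modules.hom_ext _ _ fun V => ?_
    ext r
    show s'.app V r = 0
    have h1 : s'.app V r = (show Γ(Proj 𝒜, V) from r) • ZeroSchX.sv s' V := by
      refine Eq.trans ?_ (Scheme.Modules.Hom.app_smul s' (show Γ(Proj 𝒜, V) from r)
        (show Γ(Coh.structureModule (Proj 𝒜), V) from (1 : Γ(Proj 𝒜, V))))
      exact congrArg (fun z : Γ(Coh.structureModule (Proj 𝒜), V) => s'.app V z)
        ((mul_one (show Γ(Proj 𝒜, V) from r)).symm : (show Γ(Proj 𝒜, V) from r) = (show Γ(Proj 𝒜, V) from r) * 1)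
    rw [h1, ← ZeroSchX.res_sv s' (le_top : V ≤ ⊤)]
    change _ • AModX.res L _ σ = 0
    rw [hσ0]
    exact (congrArg _ (map_zero _)).trans (smul_zero _)
  obtain ⟨ψ, hsurj, hhom, hker⟩ := exists_elim (n := n) a ha ha0
  let Ψ : 𝒜 →+*ᵍ CohB1.polyGrading n k := ⟨ψ.toRingHom, fun {i p} hp => hhom i p hp⟩
  have hΨ : Function.Surjective Ψ := hsurj
  let f := Proj.map Ψ (irrelevant_le_map hΨ)
  haveI : IsClosedImmersion f := Proj16.isClosedImmersion_map Ψ _ hΨ
  have hX : ∀ j : Fin (n + 1 + 1), (MvPolynomial.X j : MvPolynomial (Fin (n + 1 + 1)) k) ∈ 𝒜 1 :=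
    fun j => isHomogeneous_X k j
  have hcov : ⨆ j, Proj.basicOpen 𝒜 (MvPolynomial.X j) = ⊤ :=
    Proj.iSup_basicOpen_eq_top 𝒜 _ (by
      rw [irrelevant_eq_span_degOne, Ideal.span_le]
      intro p hp
      rw [linForm_eq_sum (show p.IsHomogeneous 1 from hp)]
      exact Ideal.sum_mem _ fun j _ => Ideal.mul_mem_left _ _ (Ideal.subset_span ⟨j, rfl⟩))
  have hfr : ∀ j, InvX.IsFrame (AModX.res L (le_top : Proj.basicOpen 𝒜 (MvPolynomial.X j) ≤ ⊤)
      (Twist.globalOf 𝒜 ⟨MvPolynomial.X j, hX j⟩)) := fun j =>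
    TwistX.isFrame_res_globalOf (hX j) (PnCoh.Chow.nonVan_basicOpen _)
  have hL : PicF.IsInvertible L := InvX.isInvertible_of_frames fun z => by
    obtain ⟨j, hj⟩ := Opens.mem_iSup.1 (hcov.ge (trivial : z ∈ (⊤ : (Proj 𝒜).Opens)))
    exact ⟨_, hj, _, hfr j⟩
  have hkerI : f.ker = PicF2.zeroScheme L s' := by
    refine Scheme.IdealSheafData.ext_of_iSup_eq_top
      (fun j => ⟨_, Proj.isAffineOpen_basicOpen 𝒜 _ (hX j) one_pos⟩) hcov fun j => ?_
    rw [Scheme.Hom.ker_apply, ZeroSchX.ideal_zeroScheme hL]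
    refine (ker_app_eq_span Ψ hΨ ha (hX j) hker).trans (ZeroSchX.zeroIdealOn_eq_span s' (hfr j) ?_).symm
    rw [← ZeroSchX.res_sv s' (le_top : Proj.basicOpen 𝒜 (MvPolynomial.X j) ≤ ⊤)]
    exact (congrArg (AModX.res L le_top) hσ.symm).trans (globalOf_eq_smul ha (hX j))
  show ∃ φ : CohB1.ProjSpace n k ≅ (PicF2.zeroScheme L s').subscheme,
    φ.hom ≫ (PicF2.zeroScheme L s').subschemeι ≫ CohB1.ProjSpace.toSpec (n + 1) k = CohB1.ProjSpace.toSpec n k ∧
    Nonempty ((Scheme.Modules.pullback (φ.hom ≫ (PicF2.zeroScheme L s').subschemeι)).obj L ≅ _)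
  rw [← hkerI]
  refine ⟨@asIso _ _ _ _ f.toImage inferInstance, ?_, ?_⟩
  · show f.toImage ≫ f.imageι ≫ _ = _
    rw [← Category.assoc, f.toImage_imageι]
    exact map_toSpec ψ Ψ (fun _ => rfl) (irrelevant_le_map hΨ)
  obtain ⟨e⟩ := nonempty_pullback_twist_iso Ψ hΨ (irrelevant_eq_span_degOne (n + 1))
  refine ⟨(Scheme.Modules.pullbackCongr ?_).app L ≪≫ e⟩
  exact f.toImage_imageι

end Groth.Agent.LinSub
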