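import Groth.Agent.LinSub.Restrict
import Groth.Agent.PnEuler.Split
import Groth.Agent.ExtShX.PnSmooth
import Groth.Agent.PnVan.Twist

/-!
# Bundles trivial on a line
-/

set_option linter.style.haveILetI false
set_option linter.unusedSectionVars false
set_option backward.isDefEq.respectTransparency false
set_option backward.isDefEq.respectTransparency.types false
set_option maxHeartbeats 400000

universe u

open CategoryTheory CategoryTheory.Limits AlgebraicGeometry TopologicalSpace Opposite

noncomputable section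

namespace Groth.Agent.LinSub

open Groth.Agent Groth.Agent.PnEuler

variable (k : Type u) [Field k]

/-- Negative twists pull back to negative twists along linear maps. -/
theorem nonempty_pullback_tw_neg {a b : ℕ} (i : CohB1.ProjSpace a k ⟶ CohB1.ProjSpace b k)
    (hO : Nonempty ((Scheme.Modules.pullback i).obj (Twist.twistProjSpace b k 1) ≅ Twist.twistProjSpace a k 1))
    (d : ℕ) : Nonempty ((Scheme.Modules.pullback i).obj (Twist.twistProjSpace b k (-(d : ℤ))) ≅
      Twist.twistProjSpace a k (-(d : ℤ))) := by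
  let F := Scheme.Modules.pullback i
  obtain ⟨e1⟩ := hO
  obtain ⟨on⟩ := nonempty_unit b k
  obtain ⟨om⟩ := nonempty_unit a k
  obtain ⟨o⟩ := PicClLib.nonempty_pullback_structureModule i
  induction d with
  | zero =>
    simp only [Nat.cast_zero, neg_zero]
    exact ⟨F.mapIso on.symm ≪≫ o ≪≫ om⟩
  | succ d ih =>
    obtain ⟨ed⟩ := ih
    obtain ⟨t⟩ := tw_add b k (-((d + 1 : ℕ) : ℤ)) 1
    obtain ⟨t'⟩ := tw_add a k (-((d + 1 : ℕ) : ℤ)) 1
    obtain ⟨q⟩ := ASB.pullback_tensor i (Twist.twistProjSpace b k (-((d + 1 : ℕ) : ℤ))) (Twist.twistProjSpace b k 1)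
    let x := tensCongr _ e1.symm ≪≫ q.symm ≪≫ F.mapIso (t ≪≫ eqToIso (congrArg _ (by push_cast; ring))) ≪≫ ed ≪≫
      (t' ≪≫ eqToIso (congrArg _ (show -((d + 1 : ℕ) : ℤ) + 1 = -(d : ℤ) by push_cast; ring))).symm
    exact ⟨(twR a k 1).preimageIso x⟩

/-- A bundle trivial on a line has no sections in negative degrees. -/
theorem subsingleton_h0_neg : ∀ (n r : ℕ) (E : (CohB1.ProjSpace n k).Modules), FlatMod.IsFinLocFree E →
    ∀ (i : CohB1.ProjSpace 1 k ⟶ CohB1.ProjSpace n k) [IsClosedImmersion i],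
      i ≫ CohB1.ProjSpace.toSpec n k = CohB1.ProjSpace.toSpec 1 k →
      Nonempty ((Scheme.Modules.pullback i).obj (Twist.twistProjSpace n k 1) ≅ Twist.twistProjSpace 1 k 1) →
      Nonempty ((Scheme.Modules.pullback i).obj E ≅ FlatMod.freeMod (CohB1.ProjSpace 1 k) r) →
      ∀ d : ℕ, 1 ≤ d →
        Subsingleton (Coh.HH (CohB1.ProjSpace n k) (CohB1.tensorMod E (Twist.twistProjSpace n k (-(d : ℤ)))) 0) := by
  intro n
  induction n with
  | zero =>
    intro r E _ i hc _ _ _ d _
    exfalso
    have h := i.isClosedEmbedding.isInducing.topologicalKrullDim_le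
    rw [S10829.result k 0, S10829.result k 1] at h
    norm_num at h
  | succ m ih =>
    intro r E hE i hc hi hO htriv
    haveI := ExtShX.DetPn.quasiSeparated_toSpec 1 k
    by_cases hm : m = 0
    · subst hm
      intro d hd
      haveI := H23.PnChart.isIntegral_projSpace 1 k
      haveI : IsProper ((CohB1.ProjSpace 1 k) ↘ Spec (CommRingCat.of k)) := PnCoh.Chow.isProper_toSpec 1 k
      haveI := CurveEmbed.isIso_of_closedImmersion_line k (by simpa using S10829.result k 1) i
      rw [subsingleton_hh0_iff k, ← subsingleton_hom_iff_pullback (asIso i), ← subsingleton_hh0_iff k]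
      obtain ⟨q⟩ := ASB.pullback_tensor i E (Twist.twistProjSpace (0 + 1) k (-(d : ℤ)))
      obtain ⟨t⟩ := nonempty_pullback_tw_neg k i hO d
      obtain ⟨e⟩ := htriv
      obtain ⟨w⟩ := twR_free 1 k r (-(d : ℤ))
      refine QCoh.subsingleton_HH_of_iso (q ≪≫ tensCongr _ t ≪≫ (twR 1 k (-(d : ℤ))).mapIso e ≪≫ w).symm 0 ?_
      exact subsingleton_sigma k _ _ 0 (subsingleton_tw 1 k _ 0 (fun h => by omega) (fun h => by omega))
    obtain ⟨s, φ, i', hs, hOj, h1, hc', hi', hO'⟩ := exists_hyperplane_through m k (by omega) i hi hO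
    haveI := hc'
    let j := φ.hom ≫ (PicF2.zeroScheme _ s).subschemeι
    have hjE : Nonempty ((Scheme.Modules.pullback i').obj ((Scheme.Modules.pullback j).obj E) ≅
        FlatMod.freeMod (CohB1.ProjSpace 1 k) r) := by
      obtain ⟨e⟩ := htriv
      exact ⟨(Scheme.Modules.pullbackComp i' j).app E ≪≫ (Scheme.Modules.pullbackCongr h1).app E ≪≫ e⟩
    have hEj := KFlatLib.isFinLocFree_pullback j hE
    obtain ⟨m₀, hm₀⟩ := PnVan.negVan_of_isFinLocFree (k := k) (r := m + 1) 0 (by omega) hE
    suffices ∀ (t d : ℕ), 1 ≤ d → m₀.natAbs ≤ d + t → Subsingleton (Coh.HH (CohB1.ProjSpace (m + 1) k)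
        (CohB1.tensorMod E (Twist.twistProjSpace (m + 1) k (-(d : ℤ)))) 0) from
      fun d hd => this m₀.natAbs d hd (by omega)
    intro t
    induction t with
    | zero => exact fun d _ hd => hm₀ _ (by omega)
    | succ t iht =>
      intro d hd hdt
      have hT : FlatMod.IsFinLocFree (Twist.twistProjSpace (m + 1) k (-(d : ℤ))) :=
        ExtPowSh.flf_of_rank (InvEnd.isFinLocFreeOfRank_one (inv_tw (m + 1) k (-(d : ℤ))))
      have hEd : FlatMod.IsFinLocFree (CohB1.tensorMod E (Twist.twistProjSpace (m + 1) k (-(d : ℤ)))) :=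
        KFlatLib.isFinLocFree_tensor (M := E) (N := Twist.twistProjSpace (m + 1) k (-(d : ℤ))) hE hT
      refine subsingleton_h0_of_hyperplane m k s hs φ
        (E := CohB1.tensorMod E (Twist.twistProjSpace (m + 1) k (-(d : ℤ)))) hEd ?_ ?_
      · obtain ⟨x⟩ := twR_twR (m + 1) k E (-(d : ℤ)) (-1)
        have hd' : -(d : ℤ) + -1 = -((d + 1 : ℕ) : ℤ) := by push_cast; ring
        rw [hd'] at x
        exact QCoh.subsingleton_HH_of_iso x.symm 0 (iht (d + 1) (by omega) (by omega))
      · obtain ⟨q⟩ := ASB.pullback_tensor j E (Twist.twistProjSpace (m + 1) k (-(d : ℤ)))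
        obtain ⟨y⟩ := nonempty_pullback_tw_neg k j hOj d
        exact QCoh.subsingleton_HH_of_iso (q ≪≫ tensCongr _ y).symm 0 (ih r _ hEj i' hi' hO' hjE d hd)

end Groth.Agent.LinSub
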