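import Groth.Agent.LinSub.Hyperplane
import Groth.Agent.InvX.GenLocusPull
import Groth.Agent.ASB.Twisted

/-!
# Bundles trivial on a line have no sections in negative degrees
-/

set_option linter.style.haveILetI false
set_option linter.unusedSectionVars false
set_option backward.isDefEq.respectTransparency false
set_option backward.isDefEq.respectTransparency.types false
set_option maxHeartbeats 1000000

universe u

open CategoryTheory CategoryTheory.Limits AlgebraicGeometry TopologicalSpace Opposite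
open Groth.Agent.H23.PicMul

noncomputable section

namespace Groth.Agent.LinSub

open Groth.Agent

/-- The projection formula for bundles. -/
theorem push_tensor_flf {X Y : Scheme.{u}} (f : X ⟶ Y) {N : Y.Modules} (hN : FlatMod.IsFinLocFree N) (G : X.Modules) :
    Nonempty (CohB1.tensorMod N ((Coh.push f).obj G) ≅
      (Coh.push f).obj (CohB1.tensorMod ((Scheme.Modules.pullback f).obj N) G)) := by
  haveI := SpObjSS.enoughInjectives_of_hasInjectiveResolutions (C := X.Modules)
  haveI := QCoh.preservesFiniteLimits_push f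
  obtain ⟨e⟩ := KFlatLib.nonempty_rpush_tensor_finLocFree f G N hN 0
  let z₁ : (Coh.Rpush f 0).obj G ≅ (Coh.push f).obj G :=
    (Scheme.Modules.pushforward f).rightDerivedZeroIsoSelf.app G
  let z₂ := (Scheme.Modules.pushforward f).rightDerivedZeroIsoSelf.app
    (CohB1.tensorMod ((Scheme.Modules.pullback f).obj N) G)
  obtain ⟨t⟩ : Nonempty (CohB1.tensorMod N ((Coh.push f).obj G) ≅ CohB1.tensorMod N ((Coh.Rpush f 0).obj G)) :=
    cl_eq_iff.1 (by rw [cl_tensor, cl_tensor, cl_eq_iff.2 ⟨z₁⟩])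
  exact ⟨t ≪≫ e ≪≫ z₂⟩

theorem subsingleton_hh0_iff (k : Type u) [CommRing k] {X : Scheme.{u}} [X.Over (Spec (CommRingCat.of k))]
    (M : X.Modules) : Subsingleton (Coh.HH X M 0) ↔ Subsingleton (Coh.structureModule X ⟶ M) := by
  obtain ⟨e⟩ := ExtShX.exists_hom_HH0 (A := k) M
  exact e.toEquiv.subsingleton_congr.symm

/-- Sections along an isomorphism. -/
theorem subsingleton_hom_iff_pullback {X Y : Scheme.{u}} (φ : X ≅ Y) (M : Y.Modules) :
    Subsingleton (Coh.structureModule X ⟶ (Scheme.Modules.pullback φ.hom).obj M) ↔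
      Subsingleton (Coh.structureModule Y ⟶ M) := by
  obtain ⟨o⟩ := PicClLib.nonempty_pullback_structureModule φ.hom
  haveI : (Scheme.Modules.pullback φ.hom).IsEquivalence := (ASB.pullbackEquiv φ).isEquivalence_functor
  exact (((Functor.FullyFaithful.ofFullyFaithful (Scheme.Modules.pullback φ.hom)).homEquiv (X := Coh.structureModule Y)
    (Y := M)).trans (o.homCongr (Iso.refl _))).subsingleton_congr.symm

variable (m : ℕ) (k : Type u) [Field k]

local notation "P'" => CohB1.ProjSpace (m + 1) k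
local notation "O1" => Twist.twistProjSpace (m + 1) k 1

theorem isInvertible_tw (d : ℤ) : PicF.IsInvertible (Twist.twistProjSpace m k d) := PnEuler.inv_tw m k d

/-- A nonzero section of `O(1)` defines a divisor inverse to `O(1)`. -/
theorem nonempty_idealMod_iso (s : Coh.structureModule P' ⟶ O1) (hs : s ≠ 0) :
    Nonempty (ClSub.idealMod (PicF2.zeroScheme O1 s) ≅ Twist.twistProjSpace (m + 1) k (-1)) := by
  haveI := H23.PnChart.isIntegral_projSpace (m + 1) k
  have hL := isInvertible_tw (m + 1) k 1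
  have hO : PicF.IsInvertible (Coh.structureModule P') := by
    exact InvX.isInvertible_structureModule
  obtain ⟨-, hcl⟩ := Big.zeroScheme_divisor hL s fun x => by
    obtain ⟨W, hxW, e, he⟩ := InvX.exists_frame hL x
    obtain ⟨U, hU, hxU, hle⟩ := exists_isAffineOpen_mem_and_subset (x := x) (U := W) hxW
    have he' := he.res (show U ≤ W from hle)
    obtain ⟨c, hc⟩ := he'.exists_coord le_rfl (ZeroSchX.sv s U)
    rw [AModX.res_self] at hc
    refine ⟨⟨U, hU⟩, hxU, _, c, he', hc, fun h0 => ?_⟩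
    haveI : Nonempty (U : Scheme.{u}) := ⟨⟨x, hxU⟩⟩
    have h1 : s.app U (show Γ(Coh.structureModule P', U) from (1 : Γ(P', U))) = s.app U 0 := by
      rw [map_zero]
      exact hc.trans (by rw [h0, zero_smul])
    exact one_ne_zero (α := Γ(P', U)) (InvEnd.app_injective_of_ne_zero hO hL s hs U h1)
  obtain ⟨t⟩ := PnEuler.tw_add (m + 1) k 1 (-1)
  obtain ⟨u⟩ := PnEuler.nonempty_unit (m + 1) k
  obtain ⟨e⟩ : Nonempty (CohB1.tensorMod O1 (ClSub.idealMod (PicF2.zeroScheme O1 s)) ≅ Coh.structureModule P') :=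
    cl_eq_iff.1 (by rw [cl_tensor]; exact hcl)
  exact PicPnLib.inverse_unique (cl_eq_iff.1 (by rw [cl_tensor, mul_comm, ← cl_tensor]; exact cl_eq_iff.2 ⟨e⟩)).some
    (t ≪≫ eqToIso (by norm_num) ≪≫ u.symm)

/-- Vanishing of sections passes from a hyperplane and a twist. -/
theorem subsingleton_h0_of_hyperplane (s : Coh.structureModule P' ⟶ O1) (hs : s ≠ 0)
    (φ : CohB1.ProjSpace m k ≅ (PicF2.zeroScheme O1 s).subscheme) {E : (P').Modules}
    (hE : FlatMod.IsFinLocFree E)
    (h₁ : Subsingleton (Coh.HH P' (CohB1.tensorMod E (Twist.twistProjSpace (m + 1) k (-1))) 0))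
    (h₃ : Subsingleton (Coh.HH (CohB1.ProjSpace m k)
      ((Scheme.Modules.pullback (φ.hom ≫ (PicF2.zeroScheme O1 s).subschemeι)).obj E) 0)) :
    Subsingleton (Coh.HH P' E 0) := by
  let Z := PicF2.zeroScheme O1 s
  haveI := H23.PnChart.isIntegral_projSpace (m + 1) k
  have hS := CurveTensor.shortExact_tensor hE _ _ (kernel.condition (ClSub.toSubscheme Z))
    (CurveCohLib.Nonspecial.ideal_shortExact Z)
  obtain ⟨v⟩ : Nonempty (CohB1.tensorMod E (Coh.structureModule P') ≅ E) :=
    cl_eq_iff.1 (by rw [cl_tensor]; exact mul_one (PicF.cl E))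
  obtain ⟨a⟩ := nonempty_idealMod_iso m k s hs
  refine QCoh.subsingleton_HH_of_iso v 0 (QCoh.subsingleton_HH_X₂ hS 0 ?_ ?_)
  · exact QCoh.subsingleton_HH_of_iso ((DCoh.tensorBi.obj E).mapIso a).symm 0 h₁
  · obtain ⟨p⟩ := push_tensor_flf Z.subschemeι hE (Coh.structureModule Z.subscheme)
    obtain ⟨w⟩ : Nonempty (CohB1.tensorMod ((Scheme.Modules.pullback Z.subschemeι).obj E)
        (Coh.structureModule Z.subscheme) ≅ (Scheme.Modules.pullback Z.subschemeι).obj E) :=
      cl_eq_iff.1 (by rw [cl_tensor]; exact mul_one (PicF.cl _))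
    refine QCoh.subsingleton_HH_of_iso (p ≪≫ (Coh.push Z.subschemeι).mapIso w).symm 0 ?_
    obtain ⟨b⟩ := QCoh.HH_push_of_isAffineHom Z.subschemeι
      (QCoh.isQCoh_pullback Z.subschemeι (QCoh.isQCoh_of_isFinLocFree hE)) 0
    refine b.toEquiv.subsingleton_congr.1 ?_
    letI : Z.subscheme.Over (Spec (CommRingCat.of k)) := ⟨Z.subschemeι ≫ CohB1.ProjSpace.toSpec (m + 1) k⟩
    rw [subsingleton_hh0_iff k, ← subsingleton_hom_iff_pullback φ]
    rw [subsingleton_hh0_iff k] at h₃
    exact ((Iso.refl (Coh.structureModule (CohB1.ProjSpace m k))).homCongr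
      ((Scheme.Modules.pullbackComp φ.hom Z.subschemeι).app E)).subsingleton_congr.2 h₃

theorem isOver_iff' {a b : ℕ} (i : CohB1.ProjSpace a k ⟶ CohB1.ProjSpace b k)
    (hi : i ≫ CohB1.ProjSpace.toSpec b k = CohB1.ProjSpace.toSpec a k) : i.IsOver (Spec (CommRingCat.of k)) :=
  (Scheme.Hom.isOver_iff _).2 hi

/-- A linear form vanishing on a smaller linear subspace. -/
theorem exists_section {a : ℕ} (ha : a < m + 1) (i : CohB1.ProjSpace a k ⟶ P')
    (hi : i ≫ CohB1.ProjSpace.toSpec (m + 1) k = CohB1.ProjSpace.toSpec a k)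
    (hO : Nonempty ((Scheme.Modules.pullback i).obj O1 ≅ Twist.twistProjSpace a k 1)) :
    ∃ s : Coh.structureModule P' ⟶ O1,
      s ≠ 0 ∧ s ≫ (Scheme.Modules.pullbackPushforwardAdjunction i).unit.app O1 = 0 := by
  haveI := isOver_iff' k i hi
  obtain ⟨e1⟩ := hO
  obtain ⟨o⟩ := PicClLib.nonempty_pullback_structureModule i
  let F := Scheme.Modules.pullback i
  let G := Scheme.Modules.pushforward i
  let adj := Scheme.Modules.pullbackPushforwardAdjunction i
  let L₁ : (F.obj (Coh.structureModule P') ⟶ F.obj O1) →ₗ[k] (Coh.structureModule P' ⟶ G.obj (F.obj O1)) :=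
    (Linear.leftComp k _ (adj.unit.app (Coh.structureModule P'))).comp (G.mapLinearMap k)
  have hL₁ : Function.Bijective L₁ := (adj.homEquiv _ _).bijective
  have hd : ∀ b : ℕ, Module.Finite k (Coh.structureModule (CohB1.ProjSpace b k) ⟶ Twist.twistProjSpace b k 1) ∧
      Module.finrank k (Coh.structureModule (CohB1.ProjSpace b k) ⟶ Twist.twistProjSpace b k 1) = b + 1 := fun b => by
    obtain ⟨e⟩ := ExtShX.exists_hom_HH0 (A := k) (Twist.twistProjSpace b k 1)
    obtain ⟨h1, h2⟩ := PnEuler.finrank_h0_tw b k 1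
    haveI := h1
    exact ⟨Module.Finite.equiv e.symm, e.finrank_eq.trans (h2.trans (by rw [Nat.choose_succ_self_right]))⟩
  let e := ((Linear.homCongr k o.symm e1.symm).trans (LinearEquiv.ofBijective L₁ hL₁))
  obtain ⟨h1, h1'⟩ := hd a
  obtain ⟨h2, h2'⟩ := hd (m + 1)
  haveI := h1
  haveI := h2
  haveI := Module.Finite.equiv e
  let T : (Coh.structureModule P' ⟶ O1) →ₗ[k] (Coh.structureModule P' ⟶ G.obj (F.obj O1)) :=
    Linear.rightComp k _ (adj.unit.app O1)
  by_contra hcon
  have hinj : Function.Injective T := (injective_iff_map_eq_zero T).2 fun s hs => by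
    by_contra h0
    exact hcon ⟨s, h0, hs⟩
  have := LinearMap.finrank_le_finrank_of_injective hinj
  rw [h2', ← e.finrank_eq, h1'] at this
  omega

/-- A morphism on which a section vanishes lands in the zero scheme. -/
theorem zeroScheme_le_ker {X Y : Scheme.{u}} (i : X ⟶ Y) [QuasiCompact i] {L : Y.Modules} (hL : PicF.IsInvertible L)
    (s : Coh.structureModule Y ⟶ L)
    (hs : s ≫ (Scheme.Modules.pullbackPushforwardAdjunction i).unit.app L = 0) :
    PicF2.zeroScheme L s ≤ i.ker := by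
  have key : ∀ (U : Y.affineOpens) (x : Y), x ∈ U.1 → ∃ V : Y.affineOpens, x ∈ V.1 ∧
      (PicF2.zeroScheme L s).ideal V ≤ i.ker.ideal V := fun U x hx => by
    obtain ⟨W, hxW, e, he⟩ := InvX.exists_frame hL x
    obtain ⟨V, hV, hxV, hle⟩ := exists_isAffineOpen_mem_and_subset (x := x) (U := W) hxW
    have he' := he.res (show V ≤ W from hle)
    obtain ⟨c, hc⟩ := he'.exists_coord le_rfl (ZeroSchX.sv s V)
    rw [AModX.res_self] at hc
    refine ⟨⟨V, hV⟩, hxV, ?_⟩
    rw [ZeroSchX.ideal_zeroScheme hL, ZeroSchX.zeroIdealOn_eq_span s he' hc, Scheme.Hom.ker_apply,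
      Ideal.span_singleton_le_iff_mem, RingHom.mem_ker]
    have h0 : InvX.pullElt i (ZeroSchX.sv s V) = 0 :=
      congrArg (fun z => z.app V (show Γ(Coh.structureModule Y, V) from (1 : Γ(Y, V)))) hs
    rw [hc, InvX.pullElt_smul] at h0
    have hf := InvX.isFrame_pullElt i he'
    exact (hf (i ⁻¹ᵁ V) le_rfl).1 (show _ • _ = (0 : Γ(X, i ⁻¹ᵁ V)) • _ by rw [zero_smul, AModX.res_self]; exact h0)
  choose V hxV hV using fun x : Y => key ⟨_, (isAffineOpen_opensRange (Y.affineCover.f (Y.affineCover.idx x)))⟩ x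
    (Y.affineCover.covers x)
  exact Scheme.IdealSheafData.le_of_iSup_eq_top V (top_le_iff.1 fun x _ => Opens.mem_iSup.2 ⟨x, hxV x⟩) hV

/-- A hyperplane containing a linear subspace. -/
theorem exists_hyperplane_through {a : ℕ} (ha : a < m + 1) (i : CohB1.ProjSpace a k ⟶ P') [IsClosedImmersion i]
    (hi : i ≫ CohB1.ProjSpace.toSpec (m + 1) k = CohB1.ProjSpace.toSpec a k)
    (hO : Nonempty ((Scheme.Modules.pullback i).obj O1 ≅ Twist.twistProjSpace a k 1)) :
    ∃ (s : Coh.structureModule P' ⟶ O1) (φ : CohB1.ProjSpace m k ≅ (PicF2.zeroScheme O1 s).subscheme)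
      (i' : CohB1.ProjSpace a k ⟶ CohB1.ProjSpace m k), s ≠ 0 ∧
      Nonempty ((Scheme.Modules.pullback (φ.hom ≫ (PicF2.zeroScheme O1 s).subschemeι)).obj O1 ≅
        Twist.twistProjSpace m k 1) ∧
      i' ≫ φ.hom ≫ (PicF2.zeroScheme O1 s).subschemeι = i ∧ IsClosedImmersion i' ∧
      i' ≫ CohB1.ProjSpace.toSpec m k = CohB1.ProjSpace.toSpec a k ∧
      Nonempty ((Scheme.Modules.pullback i').obj (Twist.twistProjSpace m k 1) ≅ Twist.twistProjSpace a k 1) := by
  obtain ⟨s, hs, hs'⟩ := exists_section m k ha i hi hO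
  obtain ⟨φ, hφ, ⟨eφ⟩⟩ := hyperplane_iso_over k m s hs
  obtain ⟨e1⟩ := hO
  let Z := PicF2.zeroScheme O1 s
  have hle : Z.subschemeι.ker ≤ i.ker := by
    rw [Scheme.IdealSheafData.ker_subschemeι]
    exact zeroScheme_le_ker i (isInvertible_tw (m + 1) k 1) s hs'
  let i' := IsClosedImmersion.lift Z.subschemeι i hle ≫ φ.inv
  have h1 : i' ≫ φ.hom ≫ Z.subschemeι = i := by
    simp [i', IsClosedImmersion.lift_fac]
  refine ⟨s, φ, i', hs, ⟨eφ⟩, h1, ?_, ?_, ⟨?_⟩⟩
  · haveI : IsClosedImmersion (i' ≫ φ.hom ≫ Z.subschemeι) := h1.symm ▸ inferInstance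
    exact IsClosedImmersion.of_comp i' (φ.hom ≫ Z.subschemeι)
  · rw [← hφ]
    show i' ≫ φ.hom ≫ Z.subschemeι ≫ CohB1.ProjSpace.toSpec (m + 1) k = _
    rw [← hi, ← h1]
    simp only [i', Category.assoc]
  · exact (Scheme.Modules.pullback i').mapIso eφ.symm ≪≫
      (Scheme.Modules.pullbackComp i' (φ.hom ≫ Z.subschemeι)).app O1 ≪≫
      (Scheme.Modules.pullbackCongr h1).app O1 ≪≫ e1

end Groth.Agent.LinSub
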