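import Groth.Agent.LinSub.Line
import Groth.Agent.LinSub.Endo
import Groth.Agent.PnVan.Split

/-!
# Splitting is tested on linear subspaces
-/

set_option linter.style.haveILetI false
set_option linter.unusedSectionVars false
set_option backward.isDefEq.respectTransparency false
set_option backward.isDefEq.respectTransparency.types false
set_option maxHeartbeats 1000000

universe u

open CategoryTheory CategoryTheory.Limits AlgebraicGeometry TopologicalSpace Opposite
open Groth.Agent.H23.PicMul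

noncomputable section

namespace Groth.Agent.LinSub

open Groth.Agent

/-- Cohomology along an isomorphism. -/
theorem subsingleton_hh_pullback_iso {X Y : Scheme.{u}} (φ : X ≅ Y) {M : Y.Modules} (hM : Coh.IsQCoh M) (q : ℕ) :
    Subsingleton (Coh.HH X ((Scheme.Modules.pullback φ.hom).obj M) q) ↔ Subsingleton (Coh.HH Y M q) := by
  haveI : (Scheme.Modules.pullback φ.hom).IsEquivalence := (ASB.pullbackEquiv φ).isEquivalence_functor
  let adj := Scheme.Modules.pullbackPushforwardAdjunction φ.hom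
  haveI : IsIso adj.unit := adj.unit_isIso_of_L_fully_faithful
  obtain ⟨b⟩ := QCoh.HH_push_of_isAffineHom φ.hom (QCoh.isQCoh_pullback φ.hom hM) q
  let u : M ≅ (Coh.push φ.hom).obj ((Scheme.Modules.pullback φ.hom).obj M) := asIso (adj.unit.app M)
  exact ⟨fun h => QCoh.subsingleton_HH_of_iso u.symm q (b.toEquiv.subsingleton_congr.1 h),
    fun h => b.toEquiv.subsingleton_congr.2 (QCoh.subsingleton_HH_of_iso u q h)⟩

/-- The sequence of a bundle along a closed subscheme. -/
theorem exists_closed_sequence {X : Scheme.{u}} [IsIntegral X] (Z : X.IdealSheafData) {E L : X.Modules}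
    (hE : FlatMod.IsFinLocFree E) (a : ClSub.idealMod Z ≅ L) :
    ∃ S : ShortComplex X.Modules, S.ShortExact ∧ Nonempty (S.X₁ ≅ CohB1.tensorMod E L) ∧ Nonempty (S.X₂ ≅ E) ∧
      Nonempty (S.X₃ ≅ (Coh.push Z.subschemeι).obj ((Scheme.Modules.pullback Z.subschemeι).obj E)) := by
  have hS := CurveTensor.shortExact_tensor hE _ _ (kernel.condition (ClSub.toSubscheme Z))
    (CurveCohLib.Nonspecial.ideal_shortExact Z)
  obtain ⟨v⟩ : Nonempty (CohB1.tensorMod E (Coh.structureModule X) ≅ E) :=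
    cl_eq_iff.1 (by rw [cl_tensor]; exact mul_one (PicF.cl E))
  obtain ⟨p⟩ := push_tensor_flf Z.subschemeι hE (Coh.structureModule Z.subscheme)
  obtain ⟨w⟩ : Nonempty (CohB1.tensorMod ((Scheme.Modules.pullback Z.subschemeι).obj E)
      (Coh.structureModule Z.subscheme) ≅ (Scheme.Modules.pullback Z.subschemeι).obj E) :=
    cl_eq_iff.1 (by rw [cl_tensor]; exact mul_one (PicF.cl _))
  let a' : kernel (ClSub.toSubscheme Z) ≅ L := a
  let S : ShortComplex X.Modules := ShortComplex.mk ((DCoh.tensorBi.obj E).map (kernel.ι (ClSub.toSubscheme Z)))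
    ((DCoh.tensorBi.obj E).map (ClSub.toSubscheme Z))
    (by rw [← Functor.map_comp, kernel.condition, Functor.map_zero])
  exact ⟨S, hS, ⟨(DCoh.tensorBi.obj E).mapIso a'⟩, ⟨v⟩, ⟨p ≪≫ (Coh.push Z.subschemeι).mapIso w⟩⟩

variable (m : ℕ) (k : Type u) [Field k]

local notation "P'" => CohB1.ProjSpace (m + 1) k
local notation "O1" => Twist.twistProjSpace (m + 1) k 1

/-- The hyperplane sequence of a bundle. -/
theorem exists_hyperplane_sequence (s : Coh.structureModule P' ⟶ O1) (hs : s ≠ 0)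
    (φ : CohB1.ProjSpace m k ≅ (PicF2.zeroScheme O1 s).subscheme) {E : (P').Modules}
    (hE : FlatMod.IsFinLocFree E) :
    ∃ S : ShortComplex (P').Modules, S.ShortExact ∧
      Nonempty (S.X₁ ≅ CohB1.tensorMod E (Twist.twistProjSpace (m + 1) k (-1))) ∧ Nonempty (S.X₂ ≅ E) ∧
      ∀ q, Subsingleton (Coh.HH P' S.X₃ q) ↔ Subsingleton (Coh.HH (CohB1.ProjSpace m k)
        ((Scheme.Modules.pullback (φ.hom ≫ (PicF2.zeroScheme O1 s).subschemeι)).obj E) q) := by
  let Z := PicF2.zeroScheme O1 s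
  haveI := H23.PnChart.isIntegral_projSpace (m + 1) k
  obtain ⟨a⟩ := nonempty_idealMod_iso m k s hs
  obtain ⟨S, hS, h₁, h₂, ⟨c⟩⟩ := exists_closed_sequence Z hE a
  refine ⟨S, hS, h₁, h₂, fun q => ?_⟩
  have hq := QCoh.isQCoh_pullback Z.subschemeι (QCoh.isQCoh_of_isFinLocFree hE)
  obtain ⟨b⟩ := QCoh.HH_push_of_isAffineHom Z.subschemeι hq q
  let d := (Scheme.Modules.pullbackComp φ.hom Z.subschemeι).app E
  exact (Iff.intro (fun h => QCoh.subsingleton_HH_of_iso c q h) fun h => QCoh.subsingleton_HH_of_iso c.symm q h).trans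
    (b.toEquiv.subsingleton_congr.symm.trans ((subsingleton_hh_pullback_iso φ hq q).symm.trans
      ⟨fun h => QCoh.subsingleton_HH_of_iso d q h, fun h => QCoh.subsingleton_HH_of_iso d.symm q h⟩))

/-- All twists pull back to twists along linear maps. -/
theorem nonempty_pullback_tw {a b : ℕ} (i : CohB1.ProjSpace a k ⟶ CohB1.ProjSpace b k)
    (hO : Nonempty ((Scheme.Modules.pullback i).obj (Twist.twistProjSpace b k 1) ≅ Twist.twistProjSpace a k 1))
    (l : ℤ) : Nonempty ((Scheme.Modules.pullback i).obj (Twist.twistProjSpace b k l) ≅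
      Twist.twistProjSpace a k l) := by
  suffices ∀ (t : ℕ) (l : ℤ), l ≤ t → Nonempty ((Scheme.Modules.pullback i).obj (Twist.twistProjSpace b k l) ≅
      Twist.twistProjSpace a k l) from this l.natAbs l (by omega)
  intro t
  induction t with
  | zero =>
    intro l hl
    obtain ⟨d, rfl⟩ : ∃ d : ℕ, l = -(d : ℤ) := ⟨(-l).toNat, by omega⟩
    exact nonempty_pullback_tw_neg k i hO d
  | succ t ih =>
    intro l hl
    obtain ⟨ed⟩ := ih (l - 1) (by omega)
    obtain ⟨e1⟩ := hO
    obtain ⟨t₁⟩ := PnEuler.tw_add b k (l - 1) 1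
    obtain ⟨t'⟩ := PnEuler.tw_add a k (l - 1) 1
    rw [sub_add_cancel] at t₁ t'
    obtain ⟨q⟩ := ASB.pullback_tensor i (Twist.twistProjSpace b k (l - 1)) (Twist.twistProjSpace b k 1)
    obtain ⟨c⟩ : Nonempty (CohB1.tensorMod ((Scheme.Modules.pullback i).obj (Twist.twistProjSpace b k (l - 1)))
        ((Scheme.Modules.pullback i).obj (Twist.twistProjSpace b k 1)) ≅
          CohB1.tensorMod (Twist.twistProjSpace a k (l - 1)) (Twist.twistProjSpace a k 1)) :=
      cl_eq_iff.1 (by rw [cl_tensor, cl_tensor, cl_eq_iff.2 ⟨ed⟩, cl_eq_iff.2 ⟨e1⟩])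
    exact ⟨((Scheme.Modules.pullback i).mapIso t₁).symm ≪≫ q ≪≫ c ≪≫ t'⟩

/-- Vanishing in high twists. -/
theorem exists_vanish {r : ℕ} {F : (PnVan.P k r).Modules} (hF : Coh.IsCoh F) (q : ℕ) (hq : 1 ≤ q) :
    ∃ M : ℤ, ∀ l, M ≤ l → Subsingleton (Coh.HH (PnVan.P k r) ((PnVan.tw l).obj F) q) := by
  obtain ⟨m, hm⟩ := S14439.exists_regular k r F hF
  refine ⟨m - q, fun l hl => ?_⟩
  obtain ⟨e, he⟩ : ∃ e : ℕ, l = m + ((e : ℤ) - q) := ⟨(l - (m - q)).toNat, by omega⟩
  have hR : ProjRegular.Reg0 (𝒜 := CohB1.polyGrading r k) ((PnVan.tw m).obj F) := fun i hi => by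
    obtain ⟨φ⟩ := ProjRegular.twist_twist_iso (k := k) (n := r) F m (-(i : ℤ))
    exact QCoh.subsingleton_HH_of_iso φ.symm i (hm i hi)
  obtain ⟨φ⟩ := ProjRegular.twist_twist_iso (k := k) (n := r) F m ((e : ℤ) - q)
  rw [he]
  exact QCoh.subsingleton_HH_of_iso φ q
    (ProjRegular.reg_add ProjRegular.coords_mem ProjRegular.coords_cover hR e q hq)

/-- The cohomological splitting condition lifts from a hyperplane. -/
theorem hc_of_hyperplane (hm : 2 ≤ m) (s : Coh.structureModule P' ⟶ O1) (hs : s ≠ 0)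
    (φ : CohB1.ProjSpace m k ≅ (PicF2.zeroScheme O1 s).subscheme)
    (hO : Nonempty ((Scheme.Modules.pullback (φ.hom ≫ (PicF2.zeroScheme O1 s).subschemeι)).obj O1 ≅
      Twist.twistProjSpace m k 1))
    (E : (P').Modules) (hE : FlatMod.IsFinLocFree E)
    (h : PnVan.Hc (k := k) (r := m)
      ((Scheme.Modules.pullback (φ.hom ≫ (PicF2.zeroScheme O1 s).subschemeι)).obj E)) :
    PnVan.Hc (k := k) (r := m + 1) E := by
  let j := φ.hom ≫ (PicF2.zeroScheme O1 s).subschemeι
  haveI : IsLocallyNoetherian P' := by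
    haveI := PnCoh.Chow.isProper_toSpec (m + 1) k
    exact LocallyOfFiniteType.isLocallyNoetherian (CohB1.ProjSpace.toSpec (m + 1) k)
  have hEc : Coh.IsCoh E := QCoh.isCoh_iff_isFP.2 (QCoh.isFP_of_isFinLocFree hE)
  have step : ∀ l : ℤ, ∃ S : ShortComplex (P').Modules, S.ShortExact ∧
      Nonempty (S.X₁ ≅ CohB1.tensorMod E (Twist.twistProjSpace (m + 1) k (l - 1))) ∧
      Nonempty (S.X₂ ≅ CohB1.tensorMod E (Twist.twistProjSpace (m + 1) k l)) ∧
      ∀ q, 1 ≤ q → q < m → Subsingleton (Coh.HH P' S.X₃ q) := fun l => by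
    have hT : FlatMod.IsFinLocFree (Twist.twistProjSpace (m + 1) k l) :=
      ExtPowSh.flf_of_rank (InvEnd.isFinLocFreeOfRank_one (isInvertible_tw (m + 1) k l))
    have hEl : FlatMod.IsFinLocFree (CohB1.tensorMod E (Twist.twistProjSpace (m + 1) k l)) :=
      KFlatLib.isFinLocFree_tensor (M := E) (N := Twist.twistProjSpace (m + 1) k l) hE hT
    obtain ⟨S, hS, ⟨a⟩, ⟨b⟩, h3⟩ := exists_hyperplane_sequence m k s hs φ hEl
    obtain ⟨x⟩ := PnEuler.twR_twR (m + 1) k E l (-1)
    refine ⟨S, hS, ⟨a ≪≫ x⟩, ⟨b⟩, fun q h1 h2 => (h3 q).2 ?_⟩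
    obtain ⟨p⟩ := ASB.pullback_tensor j E (Twist.twistProjSpace (m + 1) k l)
    obtain ⟨y⟩ := nonempty_pullback_tw k j hO l
    exact QCoh.subsingleton_HH_of_iso (p ≪≫ PnEuler.tensCongr _ y).symm q (h.mid l q h1 h2)
  refine ⟨hEc, fun l i h1 h2 => ?_, fun _ => PnVan.negVan_of_isFinLocFree (k := k) (r := m + 1) 0 (by omega) hE⟩
  rcases Nat.lt_or_ge i m with him | him
  · obtain ⟨m₀, hm₀⟩ := PnVan.negVan_of_isFinLocFree (k := k) (r := m + 1) i h2 hE
    suffices ∀ (t : ℕ) (l : ℤ), l ≤ m₀ + t → Subsingleton (Coh.HH P'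
        (CohB1.tensorMod E (Twist.twistProjSpace (m + 1) k l)) i) from this (l - m₀).natAbs l (by omega)
    intro t
    induction t with
    | zero => exact fun l hl => hm₀ l (by omega)
    | succ t ih =>
      intro l hl
      obtain ⟨S, hS, ⟨a⟩, ⟨b⟩, h3⟩ := step l
      exact QCoh.subsingleton_HH_of_iso b i (QCoh.subsingleton_HH_X₂ hS i
        (QCoh.subsingleton_HH_of_iso a.symm i (ih (l - 1) (by omega))) (h3 i h1 him))
  · obtain ⟨p, hp⟩ : ∃ p, m = p + 1 := ⟨m - 1, by omega⟩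
    rw [show i = p + 1 by omega]
    obtain ⟨M, hM⟩ := exists_vanish k (r := m + 1) hEc (p + 1) (by omega)
    suffices ∀ (t : ℕ) (l : ℤ), M ≤ l + t → Subsingleton (Coh.HH P'
        (CohB1.tensorMod E (Twist.twistProjSpace (m + 1) k l)) (p + 1)) from this (M - l).natAbs l (by omega)
    intro t
    induction t with
    | zero => exact fun l hl => hM l (by omega)
    | succ t ih =>
      intro l hl
      obtain ⟨S, hS, ⟨a⟩, ⟨b⟩, h3⟩ := step (l + 1)
      rw [add_sub_cancel_right] at a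
      letI : (P').Over (Spec (CommRingCat.of k)) := ⟨CohB1.ProjSpace.toSpec (m + 1) k⟩
      exact QCoh.subsingleton_HH_of_iso a (p + 1) (PnEuler.subsingleton_X₁_succ k hS p
        (QCoh.subsingleton_HH_of_iso b.symm _ (ih (l + 1) (by omega))) (h3 p (by omega) (by omega)))

/-- A bundle split on a linear subspace of dimension at least two satisfies the splitting condition. -/
theorem hc_of_linear (a : ℕ) (ha : 2 ≤ a) : ∀ (n : ℕ) (E : (CohB1.ProjSpace n k).Modules), FlatMod.IsFinLocFree E →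
    ∀ (i : CohB1.ProjSpace a k ⟶ CohB1.ProjSpace n k) [IsClosedImmersion i],
      i ≫ CohB1.ProjSpace.toSpec n k = CohB1.ProjSpace.toSpec a k → a ≤ n →
      Nonempty ((Scheme.Modules.pullback i).obj (Twist.twistProjSpace n k 1) ≅ Twist.twistProjSpace a k 1) →
      PnVan.Hc (k := k) (r := a) ((Scheme.Modules.pullback i).obj E) → PnVan.Hc (k := k) (r := n) E := by
  intro n
  induction n with
  | zero => intro E _ i _ _ han; omega
  | succ m ih =>
    intro E hE i hc hi han hO h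
    by_cases ham : a = m + 1
    · subst ham
      haveI := H23.PnChart.isIntegral_projSpace (m + 1) k
      haveI := PnCoh.Chow.isProper_toSpec (m + 1) k
      haveI : IsLocallyNoetherian (CohB1.ProjSpace (m + 1) k) :=
        LocallyOfFiniteType.isLocallyNoetherian (CohB1.ProjSpace.toSpec (m + 1) k)
      haveI : CompactSpace ↥(CohB1.ProjSpace (m + 1) k) :=
        QuasiCompact.compactSpace_of_compactSpace (CohB1.ProjSpace.toSpec (m + 1) k)
      haveI : AlgebraicGeometry.IsNoetherian (CohB1.ProjSpace (m + 1) k) := {}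
      haveI := isIso_of_isClosedImmersion_self i
      have hEc : Coh.IsCoh E := QCoh.isCoh_iff_isFP.2 (QCoh.isFP_of_isFinLocFree hE)
      refine ⟨hEc, fun l q h1 h2 => ?_, fun h0 => PnVan.negVan_of_isFinLocFree (k := k) (r := m + 1) 0 (by omega) hE⟩
      obtain ⟨p⟩ := ASB.pullback_tensor i E (Twist.twistProjSpace (m + 1) k l)
      obtain ⟨y⟩ := nonempty_pullback_tw k i hO l
      exact (subsingleton_hh_pullback_iso (asIso i) (KFlatLib.isQCoh_tensor hEc.1
        (PnEuler.isQCoh_tw (m + 1) k l)) q).1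
          (QCoh.subsingleton_HH_of_iso (p ≪≫ PnEuler.tensCongr _ y).symm q (h.mid l q h1 h2))
    obtain ⟨s, φ, i', hs, hOj, h1, hc', hi', hO'⟩ := exists_hyperplane_through m k (by omega) i hi hO
    haveI := hc'
    let j := φ.hom ≫ (PicF2.zeroScheme _ s).subschemeι
    refine hc_of_hyperplane m k (by omega) s hs φ hOj E hE
      (ih _ (KFlatLib.isFinLocFree_pullback j hE) i' hi' (by omega) hO' ?_)
    let e := (Scheme.Modules.pullbackComp i' j).app E ≪≫ (Scheme.Modules.pullbackCongr h1).app E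
    exact h.retract (QCoh.isCoh_iff_isFP.2 (QCoh.isFP_of_isFinLocFree
      (KFlatLib.isFinLocFree_pullback i' (KFlatLib.isFinLocFree_pullback j hE)))) e.hom e.inv e.hom_inv_id

end Groth.Agent.LinSub
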